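import Groth.Agent.RelSpecLib.QMap
import Groth.Agent.RelSpecLib.SpecMapGamma
import Groth.Agent.RelSpecLib.Local
import Groth.Agent.AffAlgLib.Basic
import Groth.Agent.S8255

/-!
Morphisms into a vector bundle, and their multiplication by functions.
-/

set_option autoImplicit false
set_option linter.style.haveILetI false
set_option backward.isDefEq.respectTransparency false
set_option maxHeartbeats 800000

universe u

open CategoryTheory CategoryTheory.Limits AlgebraicGeometry TopologicalSpace Opposite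
open RelSpec

noncomputable section

namespace Groth.Agent.Cyc66.Scal

variable {X T T' : Scheme.{u}} {A B : QCAlg X}

instance (A : QCAlg X) : IsIso A.gammaMap := S8255.result A

/-- Direct-image algebra maps compose. -/
theorem algHom_comp {P Q R S : Scheme.{u}} (f : P ⟶ S) (g : Q ⟶ S) (e : R ⟶ S) (h : Q ⟶ P) (w : h ≫ f = g)
    (k : R ⟶ Q) (w' : k ≫ g = e) :
    AffAlg.algHom f g h w ≫ AffAlg.algHom g e k w' =
      AffAlg.algHom f e (k ≫ h) (by rw [Category.assoc, w, w']) := by
  ext U : 2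
  rw [NatTrans.comp_app, AffAlgLib.algHom_app, AffAlgLib.algHom_app, AffAlgLib.algHom_app,
    Scheme.Hom.appLE_comp_appLE]

/-- The algebra homomorphism of a morphism into a relative spectrum. -/
def om (g : T ⟶ X) [QuasiCompact g] [QuasiSeparated g] (h : T ⟶ A.spec) (w : h ≫ A.π = g) :
    A ⟶ QCAlg.directImage g :=
  ⟨inv A.gammaMap ≫ AffAlg.algHom A.π g h w, by
    have e : A.str ≫ inv A.gammaMap = A.π.c := by rw [← A.π_c_gammaMap]; simp
    rw [← Category.assoc, e]
    exact AffAlg.algHom_comm _ _ _ _⟩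

theorem om_injective (g : T ⟶ X) [QuasiCompact g] [QuasiSeparated g] {h h' : T ⟶ A.spec} {w : h ≫ A.π = g}
    {w' : h' ≫ A.π = g} (e : om g h w = om g h' w') : h = h' := by
  refine congrArg Subtype.val (AffAlgLib.algOf_injective A.π g (a₁ := ⟨h, w⟩) (a₂ := ⟨h', w'⟩) (Subtype.ext ?_))
  exact (cancel_epi (inv A.gammaMap)).1 (congrArg QCAlg.Hom.hom e)

theorem exists_om (g : T ⟶ X) [QuasiCompact g] [QuasiSeparated g] (a : A ⟶ QCAlg.directImage g) :
    ∃ (h : T ⟶ A.spec) (w : h ≫ A.π = g), om g h w = a := by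
  have ha : A.π.c ≫ A.gammaMap ≫ a.hom = g.c := by rw [← Category.assoc, A.π_c_gammaMap]; exact a.comm
  obtain ⟨h, w, e⟩ := AffAlgLib.exists_eq_algHom A.π g (A.gammaMap ≫ a.hom) ha
  refine ⟨h, w, QCAlg.hom_ext ?_⟩
  show inv A.gammaMap ≫ _ = a.hom
  rw [e, IsIso.inv_hom_id_assoc]

/-- Composition on the source. -/
def dmap (g : T ⟶ X) [QuasiCompact g] [QuasiSeparated g] (g' : T' ⟶ X) [QuasiCompact g'] [QuasiSeparated g']
    (k : T' ⟶ T) (w : k ≫ g = g') : QCAlg.directImage g ⟶ QCAlg.directImage g' :=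
  ⟨AffAlg.algHom g g' k w, AffAlg.algHom_comm _ _ _ _⟩

theorem om_comp (g : T ⟶ X) [QuasiCompact g] [QuasiSeparated g] (g' : T' ⟶ X) [QuasiCompact g'] [QuasiSeparated g']
    (h : T ⟶ A.spec) (w : h ≫ A.π = g) (k : T' ⟶ T) (wk : k ≫ g = g') :
    om g' (k ≫ h) (by rw [Category.assoc, w, wk]) = om g h w ≫ dmap g g' k wk := by
  refine QCAlg.hom_ext ?_
  show inv A.gammaMap ≫ _ = (inv A.gammaMap ≫ _) ≫ _
  exact (congrArg (inv A.gammaMap ≫ ·) (algHom_comp A.π g g' h w k wk).symm).trans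
    (Category.assoc _ _ _).symm

theorem om_specMap (g : T ⟶ X) [QuasiCompact g] [QuasiSeparated g] (φ : A ⟶ B) (h : T ⟶ B.spec) (w : h ≫ B.π = g) :
    om g (h ≫ QCAlg.specMap φ) (by rw [Category.assoc, QCAlg.specMap_π, w]) = φ ≫ om g h w := by
  refine QCAlg.hom_ext ?_
  show inv A.gammaMap ≫ _ = φ.hom ≫ inv B.gammaMap ≫ _
  have e : AffAlg.algHom A.π B.π (QCAlg.specMap φ) (QCAlg.specMap_π φ) =
      A.gammaMap ≫ φ.hom ≫ inv B.gammaMap := by
    rw [← Category.assoc, RelSpecLib.gammaMap_comp φ, Category.assoc, IsIso.hom_inv_id]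
    exact (Category.comp_id _).symm
  refine (congrArg (inv A.gammaMap ≫ ·)
    (algHom_comp A.π B.π g (QCAlg.specMap φ) (QCAlg.specMap_π φ) h w).symm).trans ?_
  show inv A.gammaMap ≫ _ ≫ _ = _
  rw [e]
  simp

theorem om_unit_hom (g : T ⟶ X) [QuasiCompact g] [QuasiSeparated g] (h : T ⟶ (QCAlg.unit X).spec)
    (w : h ≫ (QCAlg.unit X).π = g) : (om g h w).hom = g.c := by
  have := (om g h w).comm
  exact (Category.id_comp _).symm.trans this

theorem isIso_unit_π : IsIso (QCAlg.unit X).π :=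
  RelSpecLib.π_property (MorphismProperty.isomorphisms Scheme.{u}) fun U _ =>
    (show IsIso (Spec.map (𝟙 (X.presheaf.obj (op U)))) from inferInstance)

variable {E : X.Modules} {j : E ⟶ A.toModule}

/-- The value of the algebra homomorphism on a section. -/
def ev (g : T ⟶ X) [QuasiCompact g] [QuasiSeparated g] (h : T ⟶ A.spec) (w : h ≫ A.π = g) (j : E ⟶ A.toModule)
    (U : X.Opens) (m : Γ(E, U)) : Γ(T, g ⁻¹ᵁ U) :=
  (om g h w).hom.app (op U) (j.app U m)

theorem ev_ext (hA : IsSymAlg E A j) (g : T ⟶ X) [QuasiCompact g] [QuasiSeparated g] {h h' : T ⟶ A.spec}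
    (w : h ≫ A.π = g) (w' : h' ≫ A.π = g) (e : ∀ U m, ev g h w j U m = ev g h' w' j U m) : h = h' := by
  refine om_injective g (w := w) (w' := w') ?_
  obtain ⟨ψ, -, hu⟩ := hA (QCAlg.directImage g) (j ≫ QCAlg.Hom.toModuleMap (om g h w))
  refine (hu _ rfl).trans (hu _ ?_).symm
  ext U m
  exact (e U m).symm

/-- `h'` is the multiple of `h` by the function `c`. -/
def Scales (g : T ⟶ X) [QuasiCompact g] [QuasiSeparated g] (j : E ⟶ A.toModule) (c : Γ(T, g ⁻¹ᵁ ⊤))
    (h h' : T ⟶ A.spec) (w : h ≫ A.π = g) (w' : h' ≫ A.π = g) : Prop :=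
  ∀ U m, ev g h' w' j U m = T.presheaf.map (homOfLE (g.preimage_mono le_top)).op c * ev g h w j U m

theorem exists_scales (hA : IsSymAlg E A j) (g : T ⟶ X) [QuasiCompact g] [QuasiSeparated g] (c : Γ(T, g ⁻¹ᵁ ⊤))
    (h : T ⟶ A.spec) (w : h ≫ A.π = g) : ∃ (h' : T ⟶ A.spec) (w' : h' ≫ A.π = g), Scales g j c h h' w w' := by
  let D := QCAlg.directImage g
  let χ : E ⟶ D.toModule := ⟨letI := D.moduleSect
    PresheafOfModules.homMk
      { app := fun U => AddCommGrpCat.ofHom (AddMonoidHom.mk'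
          (fun m => (T.presheaf.map (homOfLE (g.preimage_mono (le_top : U.unop ≤ ⊤))).op c * ev g h w j U.unop m :
            Γ(T, g ⁻¹ᵁ U.unop)))
          fun a b => by
            show _ * ev g h w j U.unop (a + b) = _ * ev g h w j U.unop a + _ * ev g h w j U.unop b
            rw [← mul_add]
            exact congrArg _ ((congrArg ((om g h w).hom.app U) (map_add (j.app U.unop).hom a b)).trans
              (map_add ((om g h w).hom.app U).hom _ _)))
        naturality := fun U V i => by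
          ext m
          show T.presheaf.map (homOfLE (g.preimage_mono le_top)).op c * ev g h w j V.unop (E.presheaf.map i m) =
            T.presheaf.map (homOfLE (g.preimage_mono (leOfHom i.unop))).op
              (T.presheaf.map (homOfLE (g.preimage_mono (le_top : U.unop ≤ ⊤))).op c * ev g h w j U.unop m)
          rw [map_mul, ← ConcreteCategory.comp_apply (T.presheaf.map _), ← Functor.map_comp]
          congr 1
          refine (congrArg ((om g h w).hom.app V) (NatTrans.naturality_apply j.mapPresheaf i m)).trans ?_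
          exact NatTrans.naturality_apply (om g h w).hom i (j.app U.unop m) }
      fun U r m => by
        show _ * ev g h w j U.unop (r • m) = g.app U.unop r * (_ * ev g h w j U.unop m)
        rw [mul_left_comm]
        congr 1
        refine (congrArg ((om g h w).hom.app U) (j.app_smul r m)).trans ?_
        refine (map_mul ((om g h w).hom.app U).hom _ _).trans ?_
        exact congrArg (· * ev g h w j U.unop m) (CategoryTheory.congr_fun (NatTrans.congr_app (om g h w).comm U) r)⟩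
  obtain ⟨ψ, hψ, -⟩ := hA D χ
  obtain ⟨h', w', e⟩ := exists_om g ψ
  refine ⟨h', w', fun U m => ?_⟩
  rw [ev, e]
  exact congr(($hψ).app U m)

theorem Scales.comp {g : T ⟶ X} [QuasiCompact g] [QuasiSeparated g] {g' : T' ⟶ X} [QuasiCompact g'] [QuasiSeparated g']
    {c : Γ(T, g ⁻¹ᵁ ⊤)} {h h' : T ⟶ A.spec} {w : h ≫ A.π = g} {w' : h' ≫ A.π = g} (hs : Scales g j c h h' w w')
    (k : T' ⟶ T) (wk : k ≫ g = g') :
    Scales g' j ((dmap g g' k wk).hom.app (op ⊤) c) (k ≫ h) (k ≫ h') (by rw [Category.assoc, w, wk])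
      (by rw [Category.assoc, w', wk]) := by
  intro U m
  rw [ev, ev, om_comp g g' h' w' k wk, om_comp g g' h w k wk]
  show (dmap g g' k wk).hom.app (op U) (ev g h' w' j U m) = _ * (dmap g g' k wk).hom.app (op U) (ev g h w j U m)
  rw [hs U m]
  refine (map_mul ((dmap g g' k wk).hom.app (op U)).hom _ _).trans ?_
  exact congrArg (· * _) (NatTrans.naturality_apply (dmap g g' k wk).hom (homOfLE (le_top : U ≤ ⊤)).op c)

theorem Scales.trans {g : T ⟶ X} [QuasiCompact g] [QuasiSeparated g] {c d : Γ(T, g ⁻¹ᵁ ⊤)} {h h' h'' : T ⟶ A.spec}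
    {w : h ≫ A.π = g} {w' : h' ≫ A.π = g} {w'' : h'' ≫ A.π = g} (hs : Scales g j c h h' w w')
    (ht : Scales g j d h' h'' w' w'') : Scales g j (d * c) h h'' w w'' := by
  intro U m
  rw [ht U m, hs U m, map_mul, mul_assoc]

theorem Scales.eq (hA : IsSymAlg E A j) {g : T ⟶ X} [QuasiCompact g] [QuasiSeparated g] {c : Γ(T, g ⁻¹ᵁ ⊤)}
    {h h' : T ⟶ A.spec} {w : h ≫ A.π = g} {w' : h' ≫ A.π = g} (hs : Scales g j c h h' w w') (hc : c = 1) : h' = h := by
  subst hc
  exact ev_ext hA g w' w fun U m => (hs U m).trans (by rw [map_one, one_mul])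

end Groth.Agent.Cyc66.Scal
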