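import Groth.Agent.Cyc66.CorankOne
import Groth.Agent.Cyc66.Scal
import Groth.Agent.S6474
import Groth.Agent.S1863
import Groth.Agent.S9358
import Groth.Agent.CycLib.ShiftComp
import Groth.Agent.CycLib.DualBdl.Shift

/-!
Flat pull-back to an affine bundle is injective on cycle classes.
-/

set_option autoImplicit false
set_option linter.style.haveILetI false
set_option backward.isDefEq.respectTransparency false
set_option maxHeartbeats 1600000

universe u

open CategoryTheory CategoryTheory.Limits AlgebraicGeometry TopologicalSpace Opposite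
open RelSpec

noncomputable section

namespace Groth.Agent.Cyc66.AffBdl

open Groth.Agent.CycLib Groth.Agent.CycLib.Dev Groth.Agent.LFFrame Groth.Agent.Cyc66.Scal
open Groth.Agent.Cyc66.CorankOne

variable {X T : Scheme.{u}} {A : QCAlg X} {S : ShortComplex X.Modules}

/-- The function on a relative spectrum given by a global section of the algebra. -/
def gfun (A : QCAlg X) (a : A.presheaf.obj (op ⊤)) : Γ(A.spec, ⊤) := (inv A.gammaMap).app (op ⊤) a

theorem ev_top {E : X.Modules} (j : E ⟶ A.toModule) (g : T ⟶ X) [QuasiCompact g] [QuasiSeparated g]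
    (h : T ⟶ A.spec) (w : h ≫ A.π = g) (m : Γ(E, ⊤)) :
    (ev g h w j ⊤ m : Γ(T, ⊤)) = h.appTop (gfun A (j.app ⊤ m)) := by
  show (AffAlg.algHom A.π g h w).app (op ⊤) ((inv A.gammaMap).app (op ⊤) (j.app ⊤ m)) = _
  rw [AffAlgLib.algHom_app]
  exact congr(($((Scheme.Hom.app_eq_appLE (f := h) (U := ⊤)).symm)) (gfun A (j.app ⊤ m)))

theorem isUnit_appTop_iff {T Y : Scheme.{u}} (h : T ⟶ Y) (f : Γ(Y, ⊤)) :
    IsUnit (h.appTop f) ↔ ∀ x, h x ∈ Y.basicOpen f := by
  have key : ∀ x, IsUnit (T.presheaf.germ ⊤ x trivial (h.appTop f)) ↔ h x ∈ Y.basicOpen f := fun x => by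
    rw [Scheme.mem_basicOpen_top, ← isUnit_map_iff (h.stalkMap x).hom]
    exact iff_of_eq (congrArg IsUnit (Scheme.Hom.germ_stalkMap_apply h ⊤ x trivial f).symm)
  exact ⟨fun hu x => (key x).1 (hu.map _), fun hx =>
    RingedSpace.isUnit_of_isUnit_germ (X := T.toLocallyRingedSpace.toRingedSpace) ⊤ _ fun x _ => (key x).2 (hx x)⟩

theorem lft {E : X.Modules} [E.IsQuasicoherent] [IsLocallyNoetherian X] {j : E ⟶ A.toModule} (hA : IsSymAlg E A j)
    {r : ℕ} (hE : FlatMod.IsFinLocFreeOfRank r E) : LocallyOfFiniteType A.π := by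
  rcases Nat.eq_zero_or_pos r with rfl | hr
  · haveI := DualBdl.isIso_π_of_rank_zero hE hA
    infer_instance
  · obtain ⟨P, p, O1, i, L, hi, hip, hp, -, -, -⟩ := VecBdl.exists_completion ‹E.IsQuasicoherent› hr hE hA
    haveI := hi
    haveI := hp
    exact hip ▸ inferInstance

/-- A value on the structure module. -/
abbrev one (X : Scheme.{u}) : Γ(Coh.structureModule X, ⊤) := (1 : Γ(X, ⊤))

theorem ev_O {j : Coh.structureModule X ⟶ A.toModule} (g : T ⟶ X) [QuasiCompact g] [QuasiSeparated g]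
    (h : T ⟶ A.spec) (w : h ≫ A.π = g) (U : X.Opens) (m : Γ(X, U)) :
    ev g h w j U m = g.app U m * T.presheaf.map (homOfLE (g.preimage_mono le_top)).op (ev g h w j ⊤ (one X)) := by
  let o : Γ(Coh.structureModule X, U) := (Coh.structureModule X).presheaf.map (homOfLE le_top).op (one X)
  have hm : (m : Γ(Coh.structureModule X, U)) = m • o := by
    refine ((congrArg (m * ·) (map_one (X.presheaf.map (homOfLE (le_top : U ≤ ⊤)).op).hom)).trans (mul_one m)).symm
  conv_lhs => rw [hm]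
  refine (congrArg ((om g h w).hom.app (op U)) (j.app_smul m o)).trans ?_
  refine (map_mul ((om g h w).hom.app (op U)).hom _ _).trans ?_
  refine congrArg₂ (· * ·) (CategoryTheory.congr_fun (NatTrans.congr_app (om g h w).comm (op U)) m) ?_
  refine (congrArg ((om g h w).hom.app (op U)) (NatTrans.naturality_apply j.mapPresheaf (homOfLE le_top).op (one X))).trans ?_
  exact NatTrans.naturality_apply (om g h w).hom (homOfLE (le_top : U ≤ ⊤)).op (j.app ⊤ (one X))

theorem ext_O {j : Coh.structureModule X ⟶ A.toModule} (hA : IsSymAlg (Coh.structureModule X) A j) (g : T ⟶ X)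
    [QuasiCompact g] [QuasiSeparated g] {h h' : T ⟶ A.spec} (w : h ≫ A.π = g) (w' : h' ≫ A.π = g)
    (e : ev g h w j ⊤ (one X) = ev g h' w' j ⊤ (one X)) : h = h' :=
  ev_ext hA g w w' fun U m => by rw [ev_O g h w U m, ev_O g h' w' U m, e]

/-- The complement of the unit locus of the linear function is the sub-bundle. -/
theorem mem_range (hS : S.ShortExact) (e : S.X₁ ≅ Coh.structureModule X) [S.X₂.IsQuasicoherent]
    [S.X₃.IsQuasicoherent] (hF : FlatMod.IsFinLocFree S.X₃)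
    {AE : QCAlg X} {jE : S.X₂ ⟶ AE.toModule} (hAE : IsSymAlg S.X₂ AE jE)
    {AF : QCAlg X} {jF : S.X₃ ⟶ AF.toModule} (hAF : IsSymAlg S.X₃ AF jF) (φ : AE ⟶ AF)
    (hφ : jE ≫ QCAlg.Hom.toModuleMap φ = S.g ≫ jF) [IsClosedImmersion (QCAlg.specMap φ)] (z : AE.spec)
    (hz : z ∉ AE.spec.basicOpen (gfun AE (jE.app ⊤ (oneE e ⊤)))) : z ∈ Set.range (QCAlg.specMap φ) := by
  let t := gfun AE (jE.app ⊤ (oneE e ⊤))
  let i := QCAlg.specMap φ
  have hpi : i ≫ AE.π = AF.π := QCAlg.specMap_π φ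
  have ht : ∀ (U : X.Opens) (hU : IsAffineOpen U), AE.gammaAff U hU
      (AE.spec.presheaf.map (homOfLE (le_top : AE.π ⁻¹ᵁ U ≤ ⊤)).op t) = jE.app U (oneE e U) := fun U hU => by
    rw [← RelSpec.QCAlg.gammaMap_app AE U hU]
    refine (CategoryTheory.congr_fun (AE.gammaMap.naturality (homOfLE (le_top : U ≤ ⊤)).op) t).trans ?_
    have e1 : AE.gammaMap.app (op ⊤) t = jE.app ⊤ (oneE e ⊤) :=
      congr($(NatTrans.congr_app (IsIso.inv_hom_id AE.gammaMap) (op ⊤)) (jE.app ⊤ (oneE e ⊤)))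
    rw [ConcreteCategory.comp_apply, e1]
    refine (NatTrans.naturality_apply jE.mapPresheaf (homOfLE (le_top : U ≤ ⊤)).op (oneE e ⊤)).symm.trans ?_
    exact congrArg _ (oneE_res e le_top)
  obtain ⟨U, hU, hzU, n, f, g, hf, hg, hg0, hg1⟩ := exists_adapted e hS hF (AE.π z)
  haveI := Omega.VectorBundle.isIso_gammaAff (A := AE) U hU
  haveI := Omega.VectorBundle.isIso_gammaAff (A := AF) U hU
  let pV : MvPolynomial (Fin (1 + n)) Γ(X, U) ≃+* Γ(AE.spec, AE.π ⁻¹ᵁ U) :=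
    (polyA hAE hU hg).trans (asIso (AE.gammaAff U hU)).commRingCatIsoToRingEquiv.symm
  have hpV : ∀ p, AE.gammaAff U hU (pV p) = polyA hAE hU hg p := fun p =>
    (asIso (AE.gammaAff U hU)).commRingCatIsoToRingEquiv.apply_symm_apply _
  let t' := AE.spec.presheaf.map (homOfLE (le_top : AE.π ⁻¹ᵁ U ≤ ⊤)).op t
  have hX0 : pV (MvPolynomial.X (Fin.castAdd n 0)) = t' := by
    refine (ConcreteCategory.bijective_of_isIso (AE.gammaAff U hU)).1 ?_
    rw [hpV, polyA_X, hg0, ht U hU]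
  have hker : RingHom.ker (i.app (AE.π ⁻¹ᵁ U)).hom ≤ Ideal.span {t'} := by
    have hpre : i ⁻¹ᵁ (AE.π ⁻¹ᵁ U) = AF.π ⁻¹ᵁ U := by rw [← Scheme.Hom.comp_preimage, hpi]
    have hkill : ∀ p, φ.hom.app (op U) (polyA hAE hU hg p) = polyA hAF hU hf
        (MvPolynomial.aeval (Fin.append (fun _ : Fin 1 => 0) MvPolynomial.X) p) := fun p => by
      refine RingHom.congr_fun (f := (φ.hom.app (op U)).hom.comp (polyA hAE hU hg).toRingHom)
        (g := (polyA hAF hU hf).toRingHom.comp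
          (MvPolynomial.aeval (Fin.append (fun _ : Fin 1 => 0) MvPolynomial.X)).toRingHom)
        (MvPolynomial.ringHom_ext (fun r => ?_) fun l => ?_) p
      · show φ.hom.app (op U) (polyA hAE hU hg (MvPolynomial.C r)) =
          polyA hAF hU hf (MvPolynomial.aeval _ (MvPolynomial.C r))
        rw [MvPolynomial.aeval_C, MvPolynomial.algebraMap_eq, polyA_C, polyA_C]
        exact CategoryTheory.congr_fun (NatTrans.congr_app φ.comm (op U)) r
      · show φ.hom.app (op U) (polyA hAE hU hg (MvPolynomial.X l)) =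
          polyA hAF hU hf (MvPolynomial.aeval _ (MvPolynomial.X l))
        have e1 : ∀ m, φ.hom.app (op U) (jE.app U m) = jF.app U (S.g.app U m) := fun m => congr(($hφ).app U m)
        rw [MvPolynomial.aeval_X, polyA_X, e1]
        induction l using Fin.addCases with
        | left l =>
          obtain rfl := Subsingleton.elim l 0
          rw [Fin.append_left, hg0, map_zero]
          have e2 : S.g.app U (oneE e U) = 0 := congr(($(S.zero)).app U (e.inv.app U (1 : Γ(X, U))))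
          rw [e2]
          exact map_zero (jF.app U).hom
        | right l => rw [Fin.append_right, polyA_X, hg1]
    intro x hx
    have h1 : MvPolynomial.aeval (Fin.append (fun _ : Fin 1 => 0) (MvPolynomial.X (R := Γ(X, U)))) (pV.symm x) = 0 := by
      have hx' : (i.app (AE.π ⁻¹ᵁ U)) x = 0 := hx
      have e1 := CategoryTheory.congr_fun (DualBdl.gamma_specMap φ hU hpre.ge) x
      rw [Scheme.Hom.appLE, ConcreteCategory.comp_apply, ConcreteCategory.comp_apply, ConcreteCategory.comp_apply,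
        hx', map_zero, map_zero, ← pV.apply_symm_apply x, hpV, hkill] at e1
      exact (map_eq_zero_iff _ (polyA hAF hU hf).injective).1 e1.symm
    have h2 := Ideal.mem_map_of_mem pV.toRingHom ((ker_kill n).le (show pV.symm x ∈ RingHom.ker
      (MvPolynomial.aeval (Fin.append (fun _ : Fin 1 => 0) (MvPolynomial.X (R := Γ(X, U))))).toRingHom from h1))
    rw [Ideal.map_span, Set.image_singleton] at h2
    rw [show t' = pV.toRingHom (MvPolynomial.X (Fin.castAdd n 0)) from hX0.symm]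
    simpa using h2
  refine DualBdl.mem_range_of_affine i (hU.preimage AE.π) z hzU fun htop => hz ?_
  rw [Scheme.mem_basicOpen_top,
    ← AE.spec.presheaf.germ_res_apply (homOfLE (le_top : AE.π ⁻¹ᵁ U ≤ ⊤)) z hzU t]
  refine Ideal.span_singleton_eq_top.1 (top_le_iff.1 (htop.ge.trans ?_))
  refine (Ideal.map_mono hker).trans ?_
  rw [Ideal.map_span, Set.image_singleton]

/-- Flat pull-back to the affine bundle is injective modulo rational equivalence. -/
theorem main {δ : X → ℤ} (hX : Cyc.IsSetup X δ) (hS : S.ShortExact) (e : S.X₁ ≅ Coh.structureModule X) (n : ℕ)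
    [S.X₂.IsQuasicoherent] [S.X₃.IsQuasicoherent] (hE : FlatMod.IsFinLocFreeOfRank (n + 1) S.X₂)
    (hF : FlatMod.IsFinLocFreeOfRank n S.X₃)
    {AE : QCAlg X} {jE : S.X₂ ⟶ AE.toModule} (hAE : IsSymAlg S.X₂ AE jE)
    {A1 : QCAlg X} {j1 : Coh.structureModule X ⟶ A1.toModule} (hA1 : IsSymAlg (Coh.structureModule X) A1 j1)
    (ψ : A1 ⟶ AE) (hψ : j1 ≫ QCAlg.Hom.toModuleMap ψ = e.inv ≫ S.f ≫ jE)
    (u : Coh.structureModule X ⟶ (QCAlg.unit X).toModule) [IsIso u] (ε : A1 ⟶ QCAlg.unit X)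
    (hε : j1 ≫ QCAlg.Hom.toModuleMap ε = u)
    {AF : QCAlg X} {jF : S.X₃ ⟶ AF.toModule} (hAF : IsSymAlg S.X₃ AF jF)
    {δB : ↥(pullback (QCAlg.specMap ψ) (QCAlg.specMap ε)) → ℤ}
    (hBs : Cyc.IsSetup (pullback (QCAlg.specMap ψ) (QCAlg.specMap ε)) δB)
    (hδB : Cyc.DeltaCompat (pullback.fst (QCAlg.specMap ψ) (QCAlg.specMap ε) ≫ AE.π) δB δ) (k : ℤ)
    (α : AlgebraicCycle X ℤ) (hα : α ∈ Cyc.Zk X δ k)
    (γ : AlgebraicCycle (pullback (QCAlg.specMap ψ) (QCAlg.specMap ε)) ℤ)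
    (hγ : ⇑γ = Cyc.pullFun (pullback.fst (QCAlg.specMap ψ) (QCAlg.specMap ε) ≫ AE.π) δB δ n ⇑α)
    (h0 : Cyc.RatEquivZero δB (k + n) γ) : Cyc.RatEquivZero δ k α := by
  classical
  haveI := hX.1
  haveI := hBs.1
  haveI := isIso_unit_π (X := X)
  let B := pullback (QCAlg.specMap ψ) (QCAlg.specMap ε)
  haveI : IsAffineHom (QCAlg.specMap ε) := RelSpecLib.specMap_property @IsAffineHom ε fun U hU => inferInstance
  haveI : IsAffineHom (pullback.fst (QCAlg.specMap ψ) (QCAlg.specMap ε)) :=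
    MorphismProperty.pullback_fst _ _ inferInstance
  let φB : B ⟶ X := pullback.fst _ _ ≫ AE.π
  let cu : Γ(X, ⊤) := u.app ⊤ (one X)
  have hcu : IsUnit cu := by
    obtain ⟨r, hr⟩ := (ConcreteCategory.bijective_of_isIso (u.app ⊤)).2 (1 : Γ(X, ⊤))
    let r' : Γ(X, ⊤) := r
    refine IsUnit.of_mul_eq_one_right r' ?_
    refine Eq.trans ?_ hr
    refine Eq.trans ?_ (congrArg (u.app ⊤) (mul_one r'))
    exact (u.app_smul r' (one X)).symm
  have hψ1 : ψ.hom.app (op ⊤) (j1.app ⊤ (one X)) = jE.app ⊤ (oneE e ⊤) := congr(($hψ).app ⊤ (one X))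
  have hε1 : ε.hom.app (op ⊤) (j1.app ⊤ (one X)) = cu := congr(($hε).app ⊤ (one X))
  -- values at the distinguished sections
  have vψ : ∀ {T : Scheme.{u}} (g : T ⟶ X) [QuasiCompact g] [QuasiSeparated g] (h : T ⟶ AE.spec) (w : h ≫ AE.π = g),
      ev g (h ≫ QCAlg.specMap ψ) (by rw [Category.assoc, QCAlg.specMap_π, w]) j1 ⊤ (one X) =
        ev g h w jE ⊤ (oneE e ⊤) := fun g _ _ h w => by
    rw [ev, om_specMap g ψ h w]
    exact congrArg ((om g h w).hom.app (op ⊤)) hψ1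
  have vε : ∀ {T : Scheme.{u}} (g : T ⟶ X) [QuasiCompact g] [QuasiSeparated g] (h : T ⟶ (QCAlg.unit X).spec)
      (w : h ≫ (QCAlg.unit X).π = g),
      ev g (h ≫ QCAlg.specMap ε) (by rw [Category.assoc, QCAlg.specMap_π, w]) j1 ⊤ (one X) = g.app ⊤ cu :=
    fun g _ _ h w => by
      rw [ev, om_specMap g ε h w]
      refine (congrArg ((om g h w).hom.app (op ⊤)) hε1).trans ?_
      rw [om_unit_hom g h w]
      rfl
  have hsnd : pullback.snd (QCAlg.specMap ψ) (QCAlg.specMap ε) ≫ (QCAlg.unit X).π = φB :=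
    calc pullback.snd (QCAlg.specMap ψ) (QCAlg.specMap ε) ≫ (QCAlg.unit X).π
        = pullback.snd _ _ ≫ QCAlg.specMap ε ≫ A1.π := by rw [QCAlg.specMap_π ε]
      _ = pullback.fst _ _ ≫ QCAlg.specMap ψ ≫ A1.π := (pullback.condition_assoc _).symm
      _ = φB := by rw [QCAlg.specMap_π ψ]
  -- the open `W`
  let t : Γ(AE.spec, ⊤) := gfun AE (jE.app ⊤ (oneE e ⊤))
  let s : Γ(A1.spec, ⊤) := gfun A1 (j1.app ⊤ (one X))
  let W : AE.spec.Opens := AE.spec.basicOpen t
  let gW : (W : Scheme.{u}) ⟶ X := W.ι ≫ AE.π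
  let sW : Γ(W, gW ⁻¹ᵁ ⊤) := ev gW W.ι rfl jE ⊤ (oneE e ⊤)
  have hsW : IsUnit sW := by
    have := (isUnit_appTop_iff W.ι t).2 fun x => x.2
    rw [← ev_top jE gW W.ι rfl] at this
    exact this
  let cW : Γ(W, gW ⁻¹ᵁ ⊤) := gW.app ⊤ cu
  obtain ⟨q0, wq0, hq0⟩ := exists_scales hAE gW (cW * ↑hsW.unit⁻¹) W.ι rfl
  have hq0s : ev gW q0 wq0 jE ⊤ (oneE e ⊤) = cW := by
    rw [hq0 ⊤ (oneE e ⊤), show (homOfLE (gW.preimage_mono (le_top : (⊤ : X.Opens) ≤ ⊤))).op = 𝟙 _ from rfl,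
      CategoryTheory.Functor.map_id]
    show cW * ↑hsW.unit⁻¹ * sW = cW
    rw [mul_assoc, IsUnit.val_inv_mul, mul_one]
  have hunit : ∀ {T : Scheme.{u}} (g : T ⟶ X), (g ≫ inv (QCAlg.unit X).π) ≫ (QCAlg.unit X).π = g := fun g => by simp
  let q : (W : Scheme.{u}) ⟶ B := pullback.lift q0 (gW ≫ inv (QCAlg.unit X).π) (by
    refine ext_O hA1 gW (by rw [Category.assoc, QCAlg.specMap_π, wq0])
      (by rw [Category.assoc, QCAlg.specMap_π, hunit]) ?_
    rw [vψ gW q0 wq0, hq0s, vε gW _ (hunit gW)])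
  have hqφ : q ≫ φB = gW := by rw [← Category.assoc, pullback.lift_fst, wq0]
  -- the product with the punctured line
  haveI : LocallyOfFiniteType A1.π := by
    haveI : (Coh.structureModule X).IsQuasicoherent := ProjTwist.isQuasicoherent_structureModule X
    exact lft hA1 (ProjTwist.isFinLocFreeOfRank_one (LFFrame.isInvertible_structureModule X))
  obtain ⟨hfl1, -, -, hrd1⟩ := DualBdl.shift_vectorBundle (ProjTwist.isQuasicoherent_structureModule X)
    (ProjTwist.isFinLocFreeOfRank_one (LFFrame.isInvertible_structureModule X)) hA1 hX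
    (δE := (VecBdl.exists_setup A1.π hX).choose) (VecBdl.exists_setup A1.π hX).choose_spec.2
  haveI := hfl1
  let P := pullback φB A1.π
  let f1 : P ⟶ B := pullback.fst _ _
  let Pop : P.Opens := pullback.snd φB A1.π ⁻¹ᵁ A1.spec.basicOpen s
  haveI : IsAffineHom Pop.ι := by
    rw [show Pop = P.basicOpen ((pullback.snd φB A1.π).appTop s) from Scheme.preimage_basicOpen _ _]
    infer_instance
  haveI : IsAffineHom f1 := MorphismProperty.pullback_fst _ _ inferInstance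
  let gP : (Pop : Scheme.{u}) ⟶ X := Pop.ι ≫ f1 ≫ φB
  let hB : (Pop : Scheme.{u}) ⟶ AE.spec := Pop.ι ≫ f1 ≫ pullback.fst _ _
  have whB : hB ≫ AE.π = gP := by simp only [hB, gP, φB, Category.assoc]
  let a : (Pop : Scheme.{u}) ⟶ A1.spec := Pop.ι ≫ pullback.snd φB A1.π
  have wa : a ≫ A1.π = gP := by simp only [a, gP, f1, Category.assoc, pullback.condition]
  let σ : Γ(Pop, gP ⁻¹ᵁ ⊤) := ev gP a wa j1 ⊤ (one X)
  have hσ : IsUnit σ := by
    have := (isUnit_appTop_iff a s).2 fun x => x.2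
    rw [← ev_top j1 gP a wa] at this
    exact this
  let cP : Γ(Pop, gP ⁻¹ᵁ ⊤) := gP.app ⊤ cu
  have hcP : IsUnit cP := hcu.map _
  have hsB : ev gP hB whB jE ⊤ (oneE e ⊤) = cP := by
    rw [← vψ gP hB whB]
    have e1 : hB ≫ QCAlg.specMap ψ = (Pop.ι ≫ f1 ≫ pullback.snd _ _) ≫ QCAlg.specMap ε := by
      simp only [hB, Category.assoc, pullback.condition]
    have e2 : (Pop.ι ≫ f1 ≫ pullback.snd _ _) ≫ (QCAlg.unit X).π = gP := by
      simp only [gP, Category.assoc, hsnd]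
    simp only [e1]
    exact vε gP _ e2
  obtain ⟨b, wb, hb⟩ := exists_scales hAE gP (σ * ↑hcP.unit⁻¹) hB whB
  have hbs : ev gP b wb jE ⊤ (oneE e ⊤) = σ := by
    rw [hb ⊤ (oneE e ⊤), show (homOfLE (gP.preimage_mono (le_top : (⊤ : X.Opens) ≤ ⊤))).op = 𝟙 _ from rfl,
      CategoryTheory.Functor.map_id, hsB]
    show σ * ↑hcP.unit⁻¹ * cP = σ
    rw [mul_assoc, IsUnit.val_inv_mul, mul_one]
  have hba : b ≫ QCAlg.specMap ψ = a := ext_O hA1 gP (by rw [Category.assoc, QCAlg.specMap_π, wb]) wa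
    (by rw [vψ gP b wb, hbs])
  have hbW : ∀ x, b x ∈ W := (isUnit_appTop_iff b t).1 (by rw [← ev_top jE gP b wb, hbs]; exact hσ)
  let bwd : (Pop : Scheme.{u}) ⟶ W := IsOpenImmersion.lift W.ι b (by
    rw [Scheme.Opens.range_ι]; rintro _ ⟨x, rfl⟩; exact hbW x)
  have hbwd : bwd ≫ W.ι = b := IsOpenImmersion.lift_fac _ _ _
  let f0 : (W : Scheme.{u}) ⟶ P := pullback.lift q (W.ι ≫ QCAlg.specMap ψ) (by
    rw [hqφ, Category.assoc, QCAlg.specMap_π])
  let fwd : (W : Scheme.{u}) ⟶ Pop := IsOpenImmersion.lift Pop.ι f0 (by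
    rw [Scheme.Opens.range_ι]
    rintro _ ⟨x, rfl⟩
    show (f0 ≫ pullback.snd φB A1.π) x ∈ A1.spec.basicOpen s
    rw [pullback.lift_snd]
    refine (isUnit_appTop_iff (W.ι ≫ QCAlg.specMap ψ) s).1 ?_ x
    rw [← ev_top j1 gW _ (by rw [Category.assoc, QCAlg.specMap_π]), vψ gW W.ι rfl]
    exact hsW)
  have hfwd : fwd ≫ Pop.ι = f0 := IsOpenImmersion.lift_fac _ _ _
  have hfg : fwd ≫ gP = gW := by rw [← Category.assoc, hfwd, ← Category.assoc, pullback.lift_fst, hqφ]
  have hbg : bwd ≫ gW = gP := by rw [← Category.assoc, hbwd, wb]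
  have hfB : fwd ≫ hB = q0 := by
    simp only [hB, f1]
    rw [reassoc_of% hfwd, pullback.lift_fst_assoc, pullback.lift_fst]
  have inv1 : fwd ≫ bwd = 𝟙 _ := by
    rw [← cancel_mono W.ι, Category.assoc, hbwd, Category.id_comp]
    have h2 := hb.comp fwd hfg
    simp only [hfB] at h2
    refine (hq0.trans h2).eq hAE ?_
    let dm : Γ(Pop, gP ⁻¹ᵁ ⊤) →+* Γ(W, gW ⁻¹ᵁ ⊤) := ((dmap gP gW fwd hfg).hom.app (op ⊤)).hom
    have e1 : dm cP = cW :=
      CategoryTheory.congr_fun (NatTrans.congr_app (dmap gP gW fwd hfg).comm (op ⊤)) cu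
    have e2 : dm σ = sW := by
      have e3 : ev gW (fwd ≫ a) (by rw [Category.assoc, wa, hfg]) j1 ⊤ (one X) = sW := by
        have e4 : fwd ≫ a = W.ι ≫ QCAlg.specMap ψ := by rw [← Category.assoc, hfwd, pullback.lift_snd]
        simp only [e4]
        exact vψ gW W.ι rfl
      rw [← e3, ev, om_comp gP gW a wa fwd hfg]
      rfl
    have e5 : dm (σ * ↑hcP.unit⁻¹) * cW = sW := by
      rw [← e1, ← map_mul, mul_assoc, IsUnit.val_inv_mul, mul_one, e2]
    show dm (σ * ↑hcP.unit⁻¹) * (cW * ↑hsW.unit⁻¹) = 1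
    rw [← mul_assoc, e5]
    exact hsW.mul_val_inv
  have inv2 : bwd ≫ fwd = 𝟙 _ := by
    rw [← cancel_mono Pop.ι, Category.assoc, hfwd, Category.id_comp]
    refine pullback.hom_ext ?_ ?_
    · rw [Category.assoc, pullback.lift_fst]
      refine pullback.hom_ext ?_ ?_
      · rw [Category.assoc, pullback.lift_fst]
        show bwd ≫ q0 = hB
        have h2 := hq0.comp bwd hbg
        simp only [hbwd] at h2
        refine (hb.trans h2).eq hAE ?_
        let dm : Γ(W, gW ⁻¹ᵁ ⊤) →+* Γ(Pop, gP ⁻¹ᵁ ⊤) := ((dmap gW gP bwd hbg).hom.app (op ⊤)).hom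
        have e1 : dm cW = cP :=
          CategoryTheory.congr_fun (NatTrans.congr_app (dmap gW gP bwd hbg).comm (op ⊤)) cu
        have e2 : dm sW = σ := by
          have e3 : ev gP (bwd ≫ W.ι) (by rw [hbwd, wb]) jE ⊤ (oneE e ⊤) = σ := by
            simp only [hbwd]
            exact hbs
          rw [← e3, ev, om_comp gW gP W.ι rfl bwd hbg]
          rfl
        have e5 : dm (cW * ↑hsW.unit⁻¹) * σ = cP := by
          rw [← e2, ← map_mul, mul_assoc, IsUnit.val_inv_mul, mul_one, e1]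
        show dm (cW * ↑hsW.unit⁻¹) * (σ * ↑hcP.unit⁻¹) = 1
        rw [← mul_assoc, e5]
        exact hcP.mul_val_inv
      · rw [← cancel_mono (QCAlg.unit X).π, Category.assoc, Category.assoc, Category.assoc, pullback.lift_snd_assoc,
          hunit, hbg]
        simp only [gP, f1, Category.assoc, hsnd]
    · rw [Category.assoc, pullback.lift_snd, ← Category.assoc, hbwd, hba]
  haveI : IsIso fwd := ⟨bwd, inv1, inv2⟩
  have hq : q = (fwd ≫ Pop.ι) ≫ f1 := by rw [hfwd, pullback.lift_fst]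
  haveI : Flat f1 := MorphismProperty.pullback_fst _ _ inferInstance
  haveI : LocallyOfFiniteType f1 := MorphismProperty.pullback_fst _ _ inferInstance
  haveI : Flat q := hq ▸ inferInstance
  -- dimensions
  haveI := hE
  have hE' := ChowOp.isFinLocFree_of_rank hE
  have hF' := ChowOp.isFinLocFree_of_rank hF
  haveI : LocallyOfFiniteType AE.π := by
    exact lft hAE hE
  obtain ⟨δE, hEs, hδE⟩ := VecBdl.exists_setup AE.π hX
  haveI := hEs.1
  obtain ⟨hflE, -, hsE, -⟩ := DualBdl.shift_vectorBundle ‹S.X₂.IsQuasicoherent› hE hAE hX hδE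
  haveI := hflE
  obtain ⟨δP, hPs, hδP⟩ := VecBdl.exists_setup f1 hBs
  haveI := hPs.1
  have hr1 : Cyc.HasRelDim f1 1 := (S9358.result A1.π φB (pullback.snd φB A1.π) f1
    (IsPullback.of_hasPullback φB A1.π).flip 1).2.2 hrd1
  have hs1 : ShiftBy f1 δP δB (1 : ℕ) := fun x hx => delta_eq_of_generic f1 hδP hr1 x hx
  let δW : ↥(W : Scheme.{u}) → ℤ := fun x => δE (W.ι x)
  have hdW : Cyc.IsDimFun (W : Scheme.{u}) δW := isDimFun_comp_openImmersion W.ι hEs.2.2
  haveI : IsLocallyNoetherian (W : Scheme.{u}) := LocallyOfFiniteType.isLocallyNoetherian W.ι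
  have hWs : Cyc.IsSetup (W : Scheme.{u}) δW := by
    refine ⟨inferInstance, fun u => ?_, hdW⟩
    letI : Algebra (AE.spec.presheaf.stalk (W.ι u)) ((W : Scheme.{u}).presheaf.stalk u) := (W.ι.stalkMap u).hom.toAlgebra
    haveI : Algebra.EssFiniteType (AE.spec.presheaf.stalk (W.ι u)) ((W : Scheme.{u}).presheaf.stalk u) :=
      LocallyOfFiniteType.stalkMap W.ι u
    exact S9126.result _ _ (hEs.2.1 (W.ι u))
  have hδW : δW = fun x => δP ((fwd ≫ Pop.ι) x) := by
    have h1 : Cyc.DeltaCompat gW δW δ := deltaCompat_comp (deltaCompat_preimmersion W.ι δE) hδE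
    have h2 : Cyc.DeltaCompat gW (fun x => δP ((fwd ≫ Pop.ι) x)) δ := by
      have := deltaCompat_comp (deltaCompat_comp (deltaCompat_preimmersion (fwd ≫ Pop.ι) δP) hδP) hδB
      rwa [← hq, hqφ] at this
    exact S6474.deltaCompat_unique h1 h2
  have hsq : ShiftBy q δW δB (1 : ℕ) := by
    have h1 : ShiftBy (fwd ≫ Pop.ι) δW δP 0 := fun x _ => by rw [hδW, add_zero]
    have := h1.comp hs1
    rw [← hq, add_zero] at this
    exact this
  have hsW' : ShiftBy W.ι δW δE 0 := fun x _ => (add_zero _).symm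
  have hsg : ShiftBy gW δW δ ((n : ℤ) + 1) := by
    have := hsW'.comp hsE
    push_cast at this
    rwa [add_zero] at this
  -- every point of B is hit by q
  have hsurj : ∀ y : B, ∃ x, q x = y := fun y => by
    let sec : B ⟶ P := pullback.lift (𝟙 B) (pullback.snd _ _ ≫ QCAlg.specMap ε) (by
      rw [Category.id_comp, Category.assoc, QCAlg.specMap_π, hsnd])
    have hy : sec y ∈ Pop := by
      show (sec ≫ pullback.snd φB A1.π) y ∈ A1.spec.basicOpen s
      rw [pullback.lift_snd]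
      haveI : IsAffineHom φB := inferInstance
      have hw := hsnd
      refine (isUnit_appTop_iff (pullback.snd (QCAlg.specMap ψ) (QCAlg.specMap ε) ≫ QCAlg.specMap ε) s).1 ?_ y
      rw [← ev_top j1 φB _ (by rw [Category.assoc, QCAlg.specMap_π, hw]), vε φB _ hw]
      exact hcu.map _
    refine ⟨inv fwd ⟨sec y, hy⟩, ?_⟩
    rw [hq]
    show ((inv fwd ≫ fwd) ≫ Pop.ι ≫ f1) ⟨sec y, hy⟩ = y
    rw [IsIso.inv_hom_id, Category.id_comp]
    show (sec ≫ f1) y = y
    rw [pullback.lift_fst]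
    rfl
  have hsB' : ShiftBy φB δB δ (n : ℤ) := by
    intro y hy
    obtain ⟨x0, rfl⟩ := hsurj y
    obtain ⟨x, hx, hxe, hxm⟩ := exists_generic_fibre q x0
    rw [← hxe] at hy ⊢
    have h1 := hsq x hxm
    have h2 := hsg x fun x' he hs => hxm x' (hy (q x')
      (by rw [← Scheme.Hom.comp_apply, hqφ, he, ← hqφ, Scheme.Hom.comp_apply]) (hs.map q.continuous)) hs
    rw [← hqφ, Scheme.Hom.comp_apply] at h2
    push_cast at h1
    omega
  haveI : Flat gW := inferInstance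
  -- the pull-back to W
  have hc := IsCyc.of_cycle α hα
  have hEc := ShiftC1.isCyc_pull AE.π hEs.2.2 hsE hc
  obtain ⟨Φ, hΦk, hΦ⟩ := hEc.exists_cycle
  let ΦW : AlgebraicCycle (W : Scheme.{u}) ℤ := ⟨fun x => Φ (W.ι x), fun _ _ => trivial, fun x _ => by
    obtain ⟨U, hU, hfin⟩ := Φ.locallyFiniteSupport (W.ι x)
    refine ⟨W.ι ⁻¹' U, W.ι.continuous.continuousAt hU, (hfin.preimage W.ι.isOpenEmbedding.injective.injOn).subset ?_⟩
    rintro v ⟨h1, h2⟩
    exact ⟨h1, h2⟩⟩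
  have hW0 : Cyc.RatEquivZero δW (k + ((n + 1 : ℕ) : ℤ)) ΦW := by
    have h := ratEquivZero_pull_shift q hWs hBs hsq h0 ΦW fun x => by
      rw [hγ, ← pullFun_comp_shifts q φB hdW hBs.2.2 hsq hsB' ⇑α, hqφ]
      show Φ (W.ι x) = _
      rw [hΦ, ← S6474.pullFun_of_isOpenImmersion W.ι (δX := δW) (δY := δE) (fun _ => rfl)
          (Cyc.pullFun AE.π δE δ ((n + 1 : ℕ) : ℤ) ⇑α) x,
        ← pullFun_comp_shifts W.ι AE.π hdW hEs.2.2 hsW' hsE ⇑α, add_zero]
      push_cast
      rfl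
    push_cast at h ⊢
    rwa [show k + (n : ℤ) + 1 = k + ((n : ℤ) + 1) by ring] at h
  obtain ⟨ζ, hζk, hζW, hζ⟩ := S1863.result AE.spec δE hEs W (k + ((n + 1 : ℕ) : ℤ)) Φ 0 hΦk (fun _ _ => rfl) ΦW 0
    (fun u => rfl) (fun u => rfl) (show Cyc.RatEquivZero _ _ (ΦW - 0) from by rw [sub_zero]; exact hW0)
  rw [zero_add] at hζ
  -- the remainder lives on the sub-bundle
  obtain ⟨φ, hφ, -⟩ := hAE AF (S.g ≫ jF)
  haveI : Epi S.g := hS.epi_g
  haveI : IsClosedImmersion (QCAlg.specMap φ) :=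
    S8268.result S.X₂ S.X₃ inferInstance inferInstance S.g AE AF jE jF hAE hAF φ hφ
  let i := QCAlg.specMap φ
  haveI : LocallyOfFiniteType AF.π := lft hAF hF
  obtain ⟨δF, hFs, hδF⟩ := VecBdl.exists_setup AF.π hX
  haveI := hFs.1
  have hjF : (fun d => δE (i d)) = δF := by
    refine S6474.deltaCompat_unique ?_ hδF
    have := deltaCompat_comp (deltaCompat_preimmersion i δE) hδE
    rwa [QCAlg.specMap_π] at this
  subst hjF
  let ζF : AlgebraicCycle AF.spec ℤ := ⟨fun d => ζ (i d), fun _ _ => trivial, fun d _ => by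
    obtain ⟨U, hU, hfin⟩ := ζ.locallyFiniteSupport (i d)
    refine ⟨i ⁻¹' U, i.continuous.continuousAt hU, (hfin.preimage i.isClosedEmbedding.injective.injOn).subset ?_⟩
    rintro v ⟨h1, h2⟩
    exact ⟨h1, h2⟩⟩
  have hmapζ : AlgebraicCycle.map i (fun d => δE (i d)) δE ζF = ζ := by
    refine DFunLike.ext _ _ fun z => ?_
    by_cases hz : z ∈ Set.range i
    · obtain ⟨d, rfl⟩ := hz
      rw [map_closed_apply]
      rfl
    · rw [map_closed_apply_of_notMem i ζF hz]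
      exact (hζW z (by_contra fun h => hz (mem_range hS e hF' hAE hAF φ hφ z h))).symm
  have hζ0 := CorankOne.main hX hS e hF' hAE hAF φ hφ hE' hEs hδE hFs hδF (k + ((n + 1 : ℕ) : ℤ)) ζF
    (fun d hd => hζk (i d) hd)
  rw [hmapζ] at hζ0
  have hΦ0 : Cyc.RatEquivZero δE (k + ((n + 1 : ℕ) : ℤ)) Φ := by
    have h1 : (⇑Φ : AE.spec → ℤ) - ⇑ζ ∈ Dev.prin hEs.2.2 (k + ((n + 1 : ℕ) : ℤ)) := hζ
    have h2 : ⇑ζ ∈ Dev.prin hEs.2.2 (k + ((n + 1 : ℕ) : ℤ)) := hζ0
    have := add_mem h1 h2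
    rw [sub_add_cancel] at this
    exact this
  exact S6474.result X δ hX S.X₂ ‹S.X₂.IsQuasicoherent› (n + 1) hE AE jE hAE δE hEs hδE k α hα Φ hΦ hΦ0

end Groth.Agent.Cyc66.AffBdl
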