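import Groth.Agent.CycLib.DualBdl.Local
import Groth.Agent.CycLib.RelTop.Main
import Groth.Agent.CycLib.ChartKills
import Groth.Agent.CycLib.PullSurj
import Groth.Agent.CycLib.RatMap
import Groth.Agent.ProjTwist.Invertible
import Groth.Agent.S8255
import Groth.Agent.S8268

/-!
Cycles on a sub-bundle with trivial line bundle quotient are killed by push-forward.
-/

set_option autoImplicit false
set_option linter.style.haveILetI false
set_option backward.isDefEq.respectTransparency false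
set_option maxHeartbeats 1600000

universe u

open CategoryTheory CategoryTheory.Limits AlgebraicGeometry TopologicalSpace Opposite

noncomputable section

namespace Groth.Agent.Cyc66.CorankOne

open Groth.Agent.CycLib Groth.Agent.CycLib.Dev Groth.Agent.LFFrame Groth.Agent.PullStalk.Sky
open Groth.Agent.CycLib.RelTop Groth.Agent.CycLib.ZeroTop Groth.Agent.CycLib.ChowOp

variable {X : Scheme.{u}}

/-- The local rank. -/
def rk (F : X.Modules) (x : X) : ℕ := Module.finrank (X.presheaf.stalk x) (F.presheaf.stalk x)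

theorem rk_eq {F : X.Modules} {U : X.Opens} {n : ℕ} {e : Fin n → Γ(F, U)} (he : IsFrame F U e) (x : X)
    (hx : x ∈ U) : rk F x = n := by
  rw [rk, Module.finrank_eq_card_basis (frameBasis he x hx), Fintype.card_fin]

theorem exists_affine_frame {F : X.Modules} (hF : FlatMod.IsFinLocFree F) (x : X) :
    ∃ (U : X.Opens) (_ : IsAffineOpen U) (_ : x ∈ U) (n : ℕ) (e : Fin n → Γ(F, U)), IsFrame F U e := by
  obtain ⟨W, n, e, hx, he⟩ := exists_isFrame_of_isFinLocFree hF x
  obtain ⟨U, hU, hxU, hUW⟩ := exists_isAffineOpen_mem_and_subset hx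
  exact ⟨U, hU, hxU, n, _, Desc44.ProjBundle.isFrame_restrict he hUW⟩

/-- Shifting a dimension function by the rank. -/
theorem isDimFun_add_rk {F : X.Modules} (hF : FlatMod.IsFinLocFree F) {δ : X → ℤ} (hd : Cyc.IsDimFun X δ) :
    Cyc.IsDimFun X fun x => δ x + rk F x := by
  intro x y h hne
  obtain ⟨U, -, hyU, n, e, he⟩ := exists_affine_frame hF y
  have hxU : x ∈ U := h.mem_open U.2 hyU
  obtain ⟨h1, h2⟩ := hd x y h hne
  simp only [rk_eq he x hxU, rk_eq he y hyU]
  exact ⟨by omega, fun hz => by rw [h2 hz]; ring⟩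

section poly

variable {E : X.Modules} [E.IsQuasicoherent] {A : RelSpec.QCAlg X} {j : E ⟶ A.toModule} (hA : RelSpec.IsSymAlg E A j) {U : X.Opens}
  (hU : IsAffineOpen U) {n : ℕ} {e : Fin n → Γ(E, U)} (he : IsFrame E U e)

/-- The basis of sections given by a frame. -/
def secBasis : Module.Basis (Fin n) Γ(X, U) Γ(E, U) :=
  Module.Basis.ofEquivFun (LinearEquiv.ofBijective (Fintype.linearCombination Γ(X, U) e) (by
    convert he U le_rfl using 1
    funext a
    show ∑ i, a i • e i = comb E e le_rfl a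
    simp [comb])).symm

theorem secBasis_apply (i : Fin n) : secBasis he i = e i := by
  classical
  simp [secBasis, Fintype.linearCombination_apply, Pi.single_apply, ite_smul]

/-- The polynomial presentation. -/
def polyA : MvPolynomial (Fin n) Γ(X, U) ≃+* A.presheaf.obj (op U) :=
  (SymmetricAlgebra.equivMvPolynomial (secBasis he)).symm.toRingEquiv.trans
    (RingEquiv.ofBijective _ (SymLib.affLift_bijective hA hU))

theorem polyA_C (r : Γ(X, U)) : polyA hA hU he (MvPolynomial.C r) = (A.str.app (op U)).hom r := by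
  show SymLib.affLift j U ((SymmetricAlgebra.equivMvPolynomial (secBasis he)).symm (MvPolynomial.C r)) = _
  rw [← MvPolynomial.algebraMap_eq, AlgEquiv.commutes, SymLib.affLift_algebraMap]

theorem polyA_X (i : Fin n) : polyA hA hU he (MvPolynomial.X i) = j.app U (e i) := by
  show SymLib.affLift j U ((SymmetricAlgebra.equivMvPolynomial (secBasis he)).symm (MvPolynomial.X i)) = _
  rw [SymmetricAlgebra.equivMvPolynomial_symm_X, SymLib.affLift_ι, secBasis_apply]

include hA hU he in
/-- Over a chart the fibres are affine spaces. -/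
theorem chart_kills {δ : X → ℤ} (hX : Cyc.IsSetup X δ) {δA : A.spec → ℤ} (hd : Cyc.IsDimFun A.spec δA)
    [IsLocallyNoetherian A.spec] (hδ : Cyc.DeltaCompat A.π δA δ) :
    LocallyOfFiniteType (A.ι U hU ≫ A.π) ∧ ∀ ξ : A.spec, A.π ξ ∈ U →
      δA ξ ≤ δ (A.π ξ) + n ∧
      (δA ξ < δ (A.π ξ) + n → Killed A.π δA (δA ξ) (A.π ξ) (pointFun ξ)) ∧
      (δA ξ = δ (A.π ξ) + n → fibLen A.π ξ = 1 ∧ ∀ x', A.π x' = A.π ξ → δA x' = δA ξ → x' = ξ) := by
  haveI := hX.1
  haveI : IsNoetherianRing Γ(X, U) := IsLocallyNoetherian.component_noetherian ⟨U, hU⟩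
  letI : Algebra Γ(X, U) (A.presheaf.obj (op U)) := (A.str.app (op U)).hom.toAlgebra
  let eA : MvPolynomial (Fin n) Γ(X, U) ≃ₐ[Γ(X, U)] A.presheaf.obj (op U) :=
    AlgEquiv.ofRingEquiv (f := polyA hA hU he) (fun r => polyA_C hA hU he r)
  have hc : Cyc.DeltaCompat hU.fromSpec (fun v => δ (hU.fromSpec v)) δ := deltaCompat_preimmersion _ δ
  have hsq : A.ι U hU ≫ A.π = algMap Γ(X, U) (A.presheaf.obj (op U)) ≫ hU.fromSpec := A.ι_π U hU
  have hdJ : Cyc.DeltaCompat (algMap Γ(X, U) (A.presheaf.obj (op U))) (fun u => δA (A.ι U hU u))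
      (fun v => δ (hU.fromSpec v)) := by
    refine deltaCompat_cancel _ hU.fromSpec ?_ hc
    have := deltaCompat_comp (deltaCompat_preimmersion (A.ι U hU) δA) hδ
    rwa [hsq] at this
  obtain ⟨hk, ho, -, -, hlft, hle⟩ := kills_affineSpace n Γ(X, U) (A.presheaf.obj (op U)) eA δ hX hU.fromSpec
    (fun v => δ (hU.fromSpec v)) hc (fun u => δA (A.ι U hU u)) hdJ
  haveI := hlft
  refine ⟨hsq ▸ inferInstance, fun ξ hξ => ?_⟩
  have hJ : ∀ x, A.π x ∈ Set.range hU.fromSpec → x ∈ Set.range (A.ι U hU) := fun x hx => by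
    rw [hU.range_fromSpec] at hx
    have : x ∈ A.π ⁻¹ᵁ U := hx
    rw [A.π_preimage U hU] at this
    exact this
  have hξ' : A.π ξ ∈ Set.range hU.fromSpec := by rw [hU.range_fromSpec]; exact hξ
  refine ⟨?_, fibKills_of_chart A.π (A.ι U hU) _ hU.fromSpec hd hsq hJ hk ho ξ hξ'⟩
  obtain ⟨u, rfl⟩ := hJ ξ hξ'
  have h := hle u
  have e1 : A.π (A.ι U hU u) = hU.fromSpec (algMap Γ(X, U) (A.presheaf.obj (op U)) u) := by
    rw [← Scheme.Hom.comp_apply, hsq, Scheme.Hom.comp_apply]
    rfl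
  rw [e1]
  exact h

end poly

section bundle

variable {E : X.Modules} [E.IsQuasicoherent] {A : RelSpec.QCAlg X} {j : E ⟶ A.toModule}

theorem bundle_facts (hA : RelSpec.IsSymAlg E A j) (hE : FlatMod.IsFinLocFree E) {δ : X → ℤ}
    (hX : Cyc.IsSetup X δ) {δA : A.spec → ℤ} (hS : Cyc.IsSetup A.spec δA) (hδ : Cyc.DeltaCompat A.π δA δ) :
    LocallyOfFiniteType A.π ∧ (∀ ξ, δA ξ ≤ δ (A.π ξ) + rk E (A.π ξ)) ∧
      FibKills A.π δA (fun x => δ x + rk E x) 0 ∧ FibOne A.π δA (fun x => δ x + rk E x) 0 := by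
  haveI := hS.1
  choose U hU hxU n e he using exists_affine_frame hE
  have h := fun ξ : A.spec => chart_kills hA (hU (A.π ξ)) (he (A.π ξ)) hX hS.2.2 hδ
  have hr := fun ξ : A.spec => rk_eq (he (A.π ξ)) (A.π ξ) (hxU (A.π ξ))
  refine ⟨?_, fun ξ => ?_, fun ξ hξ => ?_, fun ξ hξ => ?_⟩
  · have hcov : (⨆ x : X, U x) = ⊤ := top_le_iff.1 fun x _ => Opens.mem_iSup.2 ⟨x, hxU x⟩
    rw [IsZariskiLocalAtTarget.iff_of_iSup_eq_top (P := @LocallyOfFiniteType) U hcov]
    intro x
    obtain ⟨hl, -⟩ := chart_kills hA (hU x) (he x) hX hS.2.2 hδ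
    let J := IsOpenImmersion.isoOfRangeEq (A.ι (U x) (hU x)) (A.π ⁻¹ᵁ U x).ι (by
      rw [Scheme.Opens.range_ι, A.π_preimage (U x) (hU x)]; rfl)
    have e2 : J.hom ≫ (A.π ∣_ U x) ≫ (U x).ι = A.ι (U x) (hU x) ≫ A.π := by
      rw [morphismRestrict_ι, ← Category.assoc, IsOpenImmersion.isoOfRangeEq_hom_fac]
    haveI : LocallyOfFiniteType ((J.hom ≫ (A.π ∣_ U x)) ≫ (U x).ι) := by rw [Category.assoc, e2]; exact hl
    have := locallyOfFiniteType_of_comp (J.hom ≫ (A.π ∣_ U x)) (U x).ι
    exact (MorphismProperty.cancel_left_of_respectsIso @LocallyOfFiniteType J.hom _).1 this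
  · rw [hr ξ]
    exact ((h ξ).2 ξ (hxU _)).1
  · exact ((h ξ).2 ξ (hxU _)).2.1 (by simp only [hr ξ] at hξ; omega)
  · exact ((h ξ).2 ξ (hxU _)).2.2 (by simp only [hr ξ] at hξ; omega)

end bundle

variable {S : ShortComplex X.Modules}

/-- The distinguished section. -/
def oneE (e : S.X₁ ≅ Coh.structureModule X) (U : X.Opens) : Γ(S.X₂, U) := S.f.app U (e.inv.app U (1 : Γ(X, U)))

theorem oneE_res (e : S.X₁ ≅ Coh.structureModule X) {U V : X.Opens} (h : V ≤ U) :
    S.X₂.presheaf.map (homOfLE h).op (oneE e U) = oneE e V := by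
  refine (NatTrans.naturality_apply (e.inv ≫ S.f).mapPresheaf (homOfLE h).op (1 : Γ(X, U))).symm.trans ?_
  exact congrArg _ (map_one (X.presheaf.map (homOfLE h).op).hom)

theorem exists_adapted (e : S.X₁ ≅ Coh.structureModule X) (hS : S.ShortExact) [S.X₂.IsQuasicoherent]
    [S.X₃.IsQuasicoherent] (hF : FlatMod.IsFinLocFree S.X₃) (x : X) :
    ∃ (U : X.Opens) (_ : IsAffineOpen U) (_ : x ∈ U) (n : ℕ) (f : Fin n → Γ(S.X₃, U)) (g : Fin (1 + n) → Γ(S.X₂, U)),
      IsFrame S.X₃ U f ∧ IsFrame S.X₂ U g ∧ g (Fin.castAdd n 0) = oneE e U ∧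
        ∀ i, S.g.app U (g (Fin.natAdd 1 i)) = f i := by
  classical
  obtain ⟨U, hU, hxU, n, f, hf⟩ := exists_affine_frame hF x
  haveI : Epi S.g := hS.epi_g
  choose m hm using fun l => QCoh.app_surjective_of_epi S.g hU (f l)
  refine ⟨U, hU, hxU, n, f, Fin.append (fun _ => oneE e U) m, hf, ?_, Fin.append_left _ _ _,
    fun i => by rw [Fin.append_right]; exact hm i⟩
  refine isFrame_of_stalkComb_bijective fun y hy => ?_
  obtain ⟨hinj, hexa, hsurj⟩ := PullStalk.Exact.stalk_exact hS y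
  have hB := hf.stalkComb_bijective y hy
  set a := S.f
  set b := S.g
  let n' : Fin 1 → Γ(S.X₁, U) := fun _ => e.inv.app U (1 : Γ(X, U))
  have hn' : IsFrame S.X₁ U n' := fun V h => by
    have e1 : comb S.X₁ n' h = (fun r : Γ(X, V) => e.inv.app V r) ∘ fun c => c 0 := funext fun c => by
      have e2 : S.X₁.presheaf.map (homOfLE h).op (n' 0) = e.inv.app V (1 : Γ(X, V)) :=
        (NatTrans.naturality_apply e.inv.mapPresheaf (homOfLE h).op (1 : Γ(X, U))).symm.trans
          (congrArg _ (map_one (X.presheaf.map (homOfLE h).op).hom))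
      simp only [comb, Fin.sum_univ_one, Function.comp_apply]
      rw [e2, ← Scheme.Modules.Hom.app_smul]
      exact congrArg _ (mul_one (c 0))
    rw [e1]
    exact ((ConcreteCategory.bijective_of_isIso (e.inv.app V))).comp (Equiv.funUnique (Fin 1) Γ(X, V)).bijective
  have hA := hn'.stalkComb_bijective y hy
  set u := stalkComb S.X₁ n' y hy
  set w := stalkComb S.X₃ f y hy
  set v := stalkComb S.X₂ (Fin.append (fun _ => oneE e U) m) y hy
  have hv : ∀ c, v c = PullStalk.Exact.stalkLin a y (u fun i => c (Fin.castAdd n i)) +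
      ∑ l, c (Fin.natAdd 1 l) • germM S.X₂ U y hy (m l) := fun c => by
    simp only [v, u, stalkComb, Fintype.linearCombination_apply, Fin.sum_univ_add, Fin.append_left,
      Fin.append_right, map_sum, map_smul, PullStalk.Exact.stalkLin_germ, n', oneE, a]
  have hw : ∀ c : Fin n → X.presheaf.stalk y,
      PullStalk.Exact.stalkLin b y (∑ l, c l • germM S.X₂ U y hy (m l)) = w c := fun c => by
    simp only [w, stalkComb, Fintype.linearCombination_apply, map_sum, map_smul, PullStalk.Exact.stalkLin_germ, b, hm]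
  refine ⟨(injective_iff_map_eq_zero _).2 fun c hc => ?_, fun t => ?_⟩
  · have h1 := congrArg (PullStalk.Exact.stalkLin b y) ((hv c).symm.trans hc)
    rw [map_add, hexa.apply_apply_eq_zero, zero_add, hw, map_zero] at h1
    have h2 := (injective_iff_map_eq_zero w).1 hB.1 _ h1
    have h3 := (hv c).symm.trans hc
    simp only [fun l => congrFun h2 l, Pi.zero_apply, zero_smul, Finset.sum_const_zero, add_zero] at h3
    have h4 := (injective_iff_map_eq_zero u).1 hA.1 _ ((injective_iff_map_eq_zero _).1 hinj _ h3)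
    funext i
    refine Fin.addCases (fun i => ?_) (fun l => ?_) i
    · exact congrFun h4 i
    · exact congrFun h2 l
  · obtain ⟨c, hc⟩ := hB.2 (PullStalk.Exact.stalkLin b y t)
    have h1 : PullStalk.Exact.stalkLin b y (t - ∑ l, c l • germM S.X₂ U y hy (m l)) = 0 := by
      rw [map_sub, hw, hc, sub_self]
    obtain ⟨s, hs⟩ := (hexa _).1 h1
    obtain ⟨d, hd⟩ := hA.2 s
    refine ⟨Fin.append d c, ?_⟩
    rw [hv]
    simp only [Fin.append_left, Fin.append_right]
    rw [hd, hs, sub_add_cancel]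

theorem ker_kill {R : Type u} [CommRing R] (n : ℕ) :
    RingHom.ker (MvPolynomial.aeval (Fin.append (fun _ : Fin 1 => 0) MvPolynomial.X) :
      MvPolynomial (Fin (1 + n)) R →ₐ[R] MvPolynomial (Fin n) R).toRingHom =
      Ideal.span {MvPolynomial.X (Fin.castAdd n 0)} := by
  set k := (MvPolynomial.aeval (Fin.append (fun _ : Fin 1 => 0) MvPolynomial.X) :
      MvPolynomial (Fin (1 + n)) R →ₐ[R] MvPolynomial (Fin n) R)
  refine le_antisymm (fun f hf => ?_) ((Ideal.span_singleton_le_iff_mem _).2 ?_)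
  · have h : (Ideal.Quotient.mk (Ideal.span {MvPolynomial.X (Fin.castAdd n 0)})).comp
        ((MvPolynomial.rename (R := R) (Fin.natAdd 1)).toRingHom.comp k.toRingHom) =
        Ideal.Quotient.mk (Ideal.span {(MvPolynomial.X (Fin.castAdd n 0) : MvPolynomial (Fin (1 + n)) R)}) := by
      refine MvPolynomial.ringHom_ext (fun r => by simp [k]) fun i => ?_
      induction i using Fin.addCases with
      | left i =>
        obtain rfl := Subsingleton.elim i 0
        simp [k]
      | right i => simp [k]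
    rw [← Ideal.Quotient.eq_zero_iff_mem]
    refine (RingHom.congr_fun h f).symm.trans ?_
    show Ideal.Quotient.mk _ (MvPolynomial.rename (Fin.natAdd 1) (k f)) = 0
    rw [show k f = 0 from hf, map_zero, map_zero]
  · show k _ = 0
    simp [k]

/-- The push-forward of cycles of the sub-bundle is rationally trivial. -/
theorem main {δ : X → ℤ} (hX : Cyc.IsSetup X δ) (hS : S.ShortExact) (e : S.X₁ ≅ Coh.structureModule X)
    [S.X₂.IsQuasicoherent] [S.X₃.IsQuasicoherent] (hF : FlatMod.IsFinLocFree S.X₃)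
    {AE : RelSpec.QCAlg X} {jE : S.X₂ ⟶ AE.toModule} (hAE : RelSpec.IsSymAlg S.X₂ AE jE)
    {AF : RelSpec.QCAlg X} {jF : S.X₃ ⟶ AF.toModule} (hAF : RelSpec.IsSymAlg S.X₃ AF jF) (φ : AE ⟶ AF)
    (hφ : jE ≫ RelSpec.QCAlg.Hom.toModuleMap φ = S.g ≫ jF) [QuasiCompact (RelSpec.QCAlg.specMap φ)]
    (hE : FlatMod.IsFinLocFree S.X₂)
    {δE : AE.spec → ℤ} (hEs : Cyc.IsSetup AE.spec δE) (hδE : Cyc.DeltaCompat AE.π δE δ)
    {δF : AF.spec → ℤ} (hFs : Cyc.IsSetup AF.spec δF) (hδF : Cyc.DeltaCompat AF.π δF δ) (k : ℤ)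
    (α : AlgebraicCycle AF.spec ℤ) (hα : α ∈ Cyc.Zk AF.spec δF k) :
    Cyc.RatEquivZero δE k (AlgebraicCycle.map (RelSpec.QCAlg.specMap φ) δF δE α) := by
  classical
  haveI := hX.1
  haveI := hEs.1
  haveI := hFs.1
  haveI : Epi S.g := hS.epi_g
  let i := RelSpec.QCAlg.specMap φ
  haveI : IsClosedImmersion i := S8268.result S.X₂ S.X₃ inferInstance inferInstance S.g AE AF jE jF hAE hAF φ hφ
  have hpi : i ≫ AE.π = AF.π := RelSpec.QCAlg.specMap_π φ
  have hj : ∀ d, δF d = δE (i d) := by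
    have h2 : Cyc.DeltaCompat AF.π (fun d => δE (i d)) δ :=
      hpi ▸ deltaCompat_comp (deltaCompat_preimmersion i δE) hδE
    intro d
    obtain ⟨n, hn, hn'⟩ := hδF d
    obtain ⟨m, hm, hm'⟩ := h2 d
    have : n = m := Nat.cast_injective (R := Cardinal) (hn.symm.trans hm)
    simp only at hm'
    omega
  let δ' : X → ℤ := fun x => δ x + rk S.X₃ x
  have hd' : Cyc.IsDimFun X δ' := isDimFun_add_rk hF hX.2.2
  obtain ⟨hlf, hleF, hkF, hoF⟩ := bundle_facts hAF hF hX hFs hδF
  haveI := hlf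
  obtain ⟨-, hleE, -, -⟩ := bundle_facts hAE hE hX hEs hδE
  have hFle : ∀ d, δF d ≤ δ' (AF.π d) + ((0 : ℕ) : ℤ) := fun d => by
    have := hleF d
    simp only [δ']
    omega
  obtain ⟨β, β', hβ, hβ', hrat⟩ := exists_pull_ratEquiv AF.π δF δ' 0 k hFs.2.2 hd' hFle hkF hoF α
    (by simpa using hα)
  -- the linear function
  haveI : IsIso AE.gammaMap := S8255.result AE
  let t : Γ(AE.spec, ⊤) := (inv AE.gammaMap).app (op ⊤) (jE.app ⊤ (oneE e ⊤))
  have ht : ∀ (U : X.Opens) (hU : IsAffineOpen U), AE.gammaAff U hU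
      (AE.spec.presheaf.map (homOfLE (le_top : AE.π ⁻¹ᵁ U ≤ ⊤)).op t) = jE.app U (oneE e U) := fun U hU => by
    rw [← RelSpec.QCAlg.gammaMap_app AE U hU]
    refine (CategoryTheory.congr_fun (AE.gammaMap.naturality (homOfLE (le_top : U ≤ ⊤)).op) t).trans ?_
    have e1 : AE.gammaMap.app (op ⊤) t = jE.app ⊤ (oneE e ⊤) :=
      congr($(NatTrans.congr_app (IsIso.inv_hom_id AE.gammaMap) (op ⊤)) (jE.app ⊤ (oneE e ⊤)))
    rw [ConcreteCategory.comp_apply, e1]
    refine (NatTrans.naturality_apply jE.mapPresheaf (homOfLE (le_top : U ≤ ⊤)).op (oneE e ⊤)).symm.trans ?_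
    exact congrArg _ (oneE_res e le_top)
  let O := Coh.structureModule AE.spec
  have hOinv : PicF.IsInvertible O := LFFrame.isInvertible_structureModule _
  have hO : FlatMod.IsFinLocFreeOfRank 1 O := ProjTwist.isFinLocFreeOfRank_one hOinv
  have hzJ : ∀ (z : AE.spec), zJ O t z = Ideal.span {AE.spec.presheaf.germ ⊤ z trivial t} := fun z => by
    have hb : Function.Bijective (LinearMap.toSpanSingleton (AE.spec.presheaf.stalk z) (O.presheaf.stalk z)
        (germM O ⊤ z trivial (1 : Γ(AE.spec, ⊤)))) := by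
      obtain ⟨h1, h2⟩ := (show IsFrame O ⊤ (fun _ : Fin 1 => (1 : Γ(AE.spec, ⊤))) from fun V h => by
        have e1 : comb O (fun _ : Fin 1 => (1 : Γ(AE.spec, ⊤))) h = fun c => c 0 := funext fun c => by
          simp only [comb, Fin.sum_univ_one]
          exact (congrArg (c 0 * ·) (map_one (AE.spec.presheaf.map (homOfLE h).op).hom)).trans (mul_one _)
        rw [e1]
        exact (Equiv.funUnique (Fin 1) Γ(AE.spec, V)).bijective).stalkComb_bijective z trivial
      have e2 : ∀ c, LinearMap.toSpanSingleton (AE.spec.presheaf.stalk z) (O.presheaf.stalk z)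
          (germM O ⊤ z trivial (1 : Γ(AE.spec, ⊤))) c = stalkComb O (fun _ : Fin 1 => (1 : Γ(AE.spec, ⊤))) z trivial
            (fun _ => c) := fun c => by
        simp [stalkComb, Fintype.linearCombination_apply]
      exact ⟨fun a b h => congrFun (h1 ((e2 a).symm.trans (h.trans (e2 b)))) 0, fun v => by
        obtain ⟨c, rfl⟩ := h2 v
        exact ⟨c 0, (e2 _).trans (congrArg _ (funext fun l => by rw [Subsingleton.elim l 0]))⟩⟩
    rw [zJ, ← coIdeal_smul hb (AE.spec.presheaf.germ ⊤ z trivial t)]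
    congr 1
    exact (congrArg (germM O ⊤ z trivial) (mul_one t).symm).trans (germM_smul O ⊤ z trivial t (1 : Γ(AE.spec, ⊤)))
  -- the local picture
  have key : ∀ z : AE.spec, ∃ (W : AE.spec.Opens) (_ : IsAffineOpen W) (hz : z ∈ W),
      zJ O t z = (RingHom.ker (i.app W).hom).map (AE.spec.presheaf.germ W z hz).hom ∧
      (zJ O t z ≠ ⊤ → RegSeq 1 (fibI AE.π z) (zJ O t z)) ∧
      δE z ≤ δ' (AE.π z) + 1 := by
    intro z
    obtain ⟨U, hU, hzU, n, f, g, hf, hg, hg0, hg1⟩ := exists_adapted e hS hF (AE.π z)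
    haveI := Omega.VectorBundle.isIso_gammaAff (A := AE) U hU
    haveI := Omega.VectorBundle.isIso_gammaAff (A := AF) U hU
    let pV : MvPolynomial (Fin (1 + n)) Γ(X, U) ≃+* Γ(AE.spec, AE.π ⁻¹ᵁ U) :=
      (polyA hAE hU hg).trans (asIso (AE.gammaAff U hU)).commRingCatIsoToRingEquiv.symm
    have hpV : ∀ p, AE.gammaAff U hU (pV p) = polyA hAE hU hg p := fun p =>
      (asIso (AE.gammaAff U hU)).commRingCatIsoToRingEquiv.apply_symm_apply _
    let t' := AE.spec.presheaf.map (homOfLE (le_top : AE.π ⁻¹ᵁ U ≤ ⊤)).op t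
    have hX0 : pV (MvPolynomial.X (Fin.castAdd n 0)) = t' := by
      refine (ConcreteCategory.bijective_of_isIso (AE.gammaAff U hU)).1 ?_
      rw [hpV, polyA_X, hg0, ht U hU]
    have hzt : zJ O t z = Ideal.span {AE.spec.presheaf.germ _ z hzU t'} := by
      rw [hzJ, AE.spec.presheaf.germ_res_apply (homOfLE le_top) z hzU t]
    have hker : RingHom.ker (i.app (AE.π ⁻¹ᵁ U)).hom = Ideal.span {t'} := by
      have hpre : i ⁻¹ᵁ (AE.π ⁻¹ᵁ U) = AF.π ⁻¹ᵁ U := by rw [← Scheme.Hom.comp_preimage, hpi]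
      have hkill : ∀ p, φ.hom.app (op U) (polyA hAE hU hg p) = polyA hAF hU hf
          (MvPolynomial.aeval (Fin.append (fun _ : Fin 1 => 0) MvPolynomial.X) p) := fun p => by
        refine RingHom.congr_fun (f := (φ.hom.app (op U)).hom.comp (polyA hAE hU hg).toRingHom)
          (g := (polyA hAF hU hf).toRingHom.comp
            (MvPolynomial.aeval (Fin.append (fun _ : Fin 1 => 0) MvPolynomial.X)).toRingHom)
          (MvPolynomial.ringHom_ext (fun r => ?_) fun l => ?_) p
        · show φ.hom.app (op U) (polyA hAE hU hg (MvPolynomial.C r)) =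
            polyA hAF hU hf (MvPolynomial.aeval _ (MvPolynomial.C r))
          rw [MvPolynomial.aeval_C, MvPolynomial.algebraMap_eq, polyA_C, polyA_C]
          exact CategoryTheory.congr_fun (NatTrans.congr_app φ.comm (op U)) r
        · show φ.hom.app (op U) (polyA hAE hU hg (MvPolynomial.X l)) =
            polyA hAF hU hf (MvPolynomial.aeval _ (MvPolynomial.X l))
          have e1 : ∀ m, φ.hom.app (op U) (jE.app U m) = jF.app U (S.g.app U m) := fun m => congr(($hφ).app U m)
          rw [MvPolynomial.aeval_X, polyA_X, e1]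
          induction l using Fin.addCases with
          | left l =>
            obtain rfl := Subsingleton.elim l 0
            rw [Fin.append_left, hg0, map_zero]
            have e2 : S.g.app U (oneE e U) = 0 := congr(($(S.zero)).app U (e.inv.app U (1 : Γ(X, U))))
            rw [e2]
            exact map_zero (jF.app U).hom
          | right l => rw [Fin.append_right, polyA_X, hg1]
      have h1 : ∀ x, (i.app (AE.π ⁻¹ᵁ U)) x = 0 ↔
          MvPolynomial.aeval (Fin.append (fun _ : Fin 1 => 0) (MvPolynomial.X (R := Γ(X, U)))) (pV.symm x) = 0 := fun x => by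
        haveI : IsIso (homOfLE hpre.ge) := ⟨homOfLE hpre.le, rfl, rfl⟩
        haveI : IsIso (AF.spec.presheaf.map (homOfLE hpre.ge).op) := inferInstance
        rw [← map_eq_zero_iff (AF.spec.presheaf.map (homOfLE hpre.ge).op).hom
          (ConcreteCategory.bijective_of_isIso (AF.spec.presheaf.map (homOfLE hpre.ge).op)).1,
          ← map_eq_zero_iff (AF.gammaAff U hU).hom (ConcreteCategory.bijective_of_isIso (AF.gammaAff U hU)).1]
        have e1 := CategoryTheory.congr_fun (DualBdl.gamma_specMap φ hU hpre.ge) x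
        rw [Scheme.Hom.appLE] at e1
        refine (Eq.congr_left e1).trans ?_
        conv_lhs => rw [← pV.apply_symm_apply x]
        rw [ConcreteCategory.comp_apply, hpV, hkill]
        exact map_eq_zero_iff _ (polyA hAF hU hf).injective
      ext x
      rw [RingHom.mem_ker, show Ideal.span {t'} = (Ideal.span {MvPolynomial.X (Fin.castAdd n 0)}).map pV.toRingHom by
        rw [Ideal.map_span, Set.image_singleton]; exact congrArg (fun a => Ideal.span {a}) hX0.symm, ← ker_kill]
      refine (h1 x).trans ⟨fun h => ?_, fun h => ?_⟩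
      · have := Ideal.mem_map_of_mem pV.toRingHom
          (show pV.symm x ∈ RingHom.ker (MvPolynomial.aeval (Fin.append (fun _ : Fin 1 => 0) (MvPolynomial.X (R := Γ(X, U))))).toRingHom from h)
        simpa using this
      · obtain ⟨y, hy, e1⟩ := (Ideal.mem_map_iff_of_surjective _ pV.surjective).1 h
        rw [← e1]
        simpa using hy
    refine ⟨AE.π ⁻¹ᵁ U, hU.preimage AE.π, hzU, ?_, fun hne => ?_, ?_⟩
    · rw [hzt, hker, Ideal.map_span, Set.image_singleton]
    · let φz : MvPolynomial (Fin (1 + n)) Γ(X, U) →+* AE.spec.presheaf.stalk z :=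
        (AE.spec.presheaf.germ _ z hzU).hom.comp pV.toRingHom
      letI := φz.toAlgebra
      haveI : Module.Flat (MvPolynomial (Fin (1 + n)) Γ(X, U)) (AE.spec.presheaf.stalk z) := by
        refine RingHom.Flat.comp (RingHom.Flat.of_bijective pV.bijective) ?_
        letI := AE.spec.presheaf.algebra_section_stalk (⟨z, hzU⟩ : (AE.π ⁻¹ᵁ U : AE.spec.Opens))
        haveI : IsLocalization.AtPrime (AE.spec.presheaf.stalk z) ((hU.preimage AE.π).primeIdealOf ⟨z, hzU⟩).asIdeal :=
          (hU.preimage AE.π).isLocalization_stalk ⟨z, hzU⟩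
        exact (RingHom.flat_algebraMap_iff (R := Γ(AE.spec, AE.π ⁻¹ᵁ U)) (S := AE.spec.presheaf.stalk z)).2
          (IsLocalization.flat _ ((hU.preimage AE.π).primeIdealOf ⟨z, hzU⟩).asIdeal.primeCompl)
      let p := (hU.primeIdealOf ⟨AE.π z, hzU⟩).asIdeal
      have hI : (p.map (MvPolynomial.C : Γ(X, U) →+* MvPolynomial (Fin (1 + n)) Γ(X, U))).map (algebraMap _ _) =
          fibI AE.π z := by
        letI := X.presheaf.algebra_section_stalk (⟨AE.π z, hzU⟩ : U)
        haveI : IsLocalization.AtPrime (X.presheaf.stalk (AE.π z)) p := hU.isLocalization_stalk ⟨AE.π z, hzU⟩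
        rw [fibI, ← IsLocalization.AtPrime.map_eq_maximalIdeal p (X.presheaf.stalk (AE.π z)), Ideal.map_map, Ideal.map_map]
        congr 1
        ext r
        show AE.spec.presheaf.germ _ z hzU (pV (MvPolynomial.C r)) =
          AE.π.stalkMap z (X.presheaf.germ U (AE.π z) hzU r)
        rw [Scheme.Hom.germ_stalkMap_apply AE.π U z hzU r]
        congr 1
        refine (ConcreteCategory.bijective_of_isIso (AE.gammaAff U hU)).1 ?_
        rw [hpV, polyA_C]
        exact (CategoryTheory.congr_fun (RelSpec.QCAlg.π_app_gammaAff AE U hU) r).symm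
      have hJ : (Ideal.span (Set.range fun _ : Fin 1 =>
          (MvPolynomial.X (Fin.castAdd n 0) : MvPolynomial (Fin (1 + n)) Γ(X, U)))).map (algebraMap _ _) = zJ O t z := by
        rw [hzt, Set.range_const, Ideal.map_span, Set.image_singleton]
        exact congrArg (fun a => Ideal.span {AE.spec.presheaf.germ _ z hzU a}) hX0
      rw [← hI, ← hJ]
      exact regSeq_flat (DualBdl.regSeq_vars p (hU.primeIdealOf ⟨AE.π z, hzU⟩).isPrime.ne_top
        (fun _ : Fin 1 => Fin.castAdd n 0) (fun a b _ => Subsingleton.elim a b))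
        (hJ ▸ hne) (hI ▸ ne_top_of_le_ne_top (IsLocalRing.maximalIdeal.isMaximal _).ne_top (fibI_le AE.π z))
    · have := hleE z
      rw [rk_eq hg _ hzU] at this
      simp only [δ', rk_eq hf _ hzU]
      omega
  have hkerI : ∀ d, zJ O t (i d) = RingHom.ker (i.stalkMap d).hom := fun d => by
    obtain ⟨W, hW, hd, h, -⟩ := key (i d)
    rw [h, DualBdl.ker_stalkMap_of_affine i hW d hd]
  have htop : ∀ z, z ∉ Set.range i → zJ O t z = ⊤ := fun z hz => by
    obtain ⟨W, hW, hd, h, -⟩ := key z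
    by_contra hne
    exact hz (DualBdl.mem_range_of_affine i hW z hd (h ▸ hne))
  have hreg : ∀ z, zJ O t z ≠ ⊤ → RegSeq 1 (fibI AE.π z) (zJ O t z) := fun z =>
    (key z).choose_spec.choose_spec.choose_spec.2.1
  have hle1 : ∀ z, δE z ≤ δ' (AE.π z) + 1 := fun z => (key z).choose_spec.choose_spec.choose_spec.2.2
  have h3 : ∀ v, zJ O t v ≠ ⊤ → δE v ≤ δ' (AE.π v) + ((1 : ℤ) - ((1 : ℕ) : ℤ)) := fun v hv => by
    obtain ⟨d, rfl⟩ : v ∈ Set.range i := by_contra fun h => hv (htop v h)
    rw [← hj, ← Scheme.Hom.comp_apply, hpi]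
    have := hFle d
    omega
  have hβc := IsCyc.of_cycle β hβ
  have hrel := relTopEq hd' 1 AE.spec inferInstance δE hEs AE.π 1 hle1 O hO [O] rfl (Filt.single hOinv) t h3
    (fun v _ hv => hreg v hv) k ⇑β hβc
  rw [show esym hEs.2.2 [O] 1 = 0 by simp [esym, Multiset.esymm, Multiset.powersetCard_one, c1of_structureModule, O]] at hrel
  replace hrel : cls hEs.2.2 k (relFun AE.π δE k ⇑β (zJ O t)) = 0 := by
    rw [show k + ((1 : ℤ) - ((1 : ℕ) : ℤ)) = k by omega] at hrel
    exact hrel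
  have hbot : ⇑β' = relFun (i ≫ AE.π) δF k ⇑β fun _ => ⊥ := by
    rw [hβ', RelTop.pullFun_eq_relFun _ hβc, hpi, add_zero]
  have hmap : ⇑(AlgebraicCycle.map i δF δE β') = relFun AE.π δE k ⇑β (zJ O t) := by
    rw [ChowOp.map_eq_ext0 _ hj, hbot, RelTop.ext0_relFun AE.π _ hj k ⇑β (zJ O t) (fun _ => ⊥)
      (fun d => by rw [hkerI d]; exact ((Ideal.map_eq_bot_iff_le_ker _).2 le_rfl).symm) (fun d => (hkerI d).ge) htop]
  have hcm : IsCyc δE k (relFun AE.π δE k ⇑β (zJ O t)) := by
    have h := RelTop.isCyc_relFun AE.π hd' hEs.2.2 hβc (zJ O t) (d := (0 : ℤ)) (ZeroTop.isClosed_zJ hO t)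
      (fun x hx => by simpa using hx) fun v hv => (h3 v hv).trans (le_of_eq (by omega))
    rwa [add_zero] at h
  have hzero : IsCyc δE k (0 : AE.spec → ℤ) := ⟨fun U hU => by simp, fun x _ => rfl⟩
  have hp0 := (cls_eq_iff hEs.2.2 hcm hzero).1 (hrel.trans (cls_zero hEs.2.2 k).symm)
  rw [sub_zero] at hp0
  have hdE : Cyc.DeltaCompat i δF δE := by
    have := deltaCompat_preimmersion i δE
    rwa [show (fun x => δE (i x)) = δF from funext fun d => (hj d).symm] at this
  have hp1 := ratEquiv_map δF δE hFs.2.2 hEs.2.2 i hdE k α β' (by simpa using hrat)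
  have hp1' : (⇑(AlgebraicCycle.map i δF δE α) : AE.spec → ℤ) - ⇑(AlgebraicCycle.map i δF δE β') ∈
      Dev.prin hEs.2.2 k := hp1
  rw [hmap] at hp1'
  have := add_mem hp1' hp0
  rw [sub_add_cancel] at this
  exact this

end Groth.Agent.Cyc66.CorankOne
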